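import Cfsg.Agent.Lib.Np.Big
import Cfsg.Agent.Lib.PSL2.Count

/-!
# Simple groups with a Sylow subgroup of prime order and of index two in its normalizer
-/

set_option autoImplicit false

namespace Cfsg.Lib.Alex

open Cfsg.Lib.Char Cfsg.Lib.Small Cfsg.Lib.Cyc Subgroup Finset
open scoped ComplexConjugate

variable {G : Type*} [Group G]

/-- The principal block has the characters `1`, `χ` and the exceptional ones. -/
structure Al (p t x y : ℕ) (S Y : Finset (IrrCharacter G)) (a : IrrCharacter G → ℤ) (δ : ℤ)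
    (χ θ : IrrCharacter G) (w : G) : Prop extends PB p 2 t S Y a (-δ) where
  hS : ∀ (R : Type) [AddCommMonoid R] (F : IrrCharacter G → R), ∑ ξ ∈ S, F ξ = F (irrOne G) + F χ
  cases : ∀ ξ ∈ S, ξ = irrOne G ∨ ξ = χ
  memS : χ ∈ S
  ne : χ ≠ irrOne G
  sgn : a χ = δ
  mem : θ ∈ Y
  ord : orderOf w = p
  cent : Nat.card (centralizer ({w} : Set G)) = p
  dx : charDegree (χ : G → ℂ) = x
  dy : charDegree (θ : G → ℂ) = y

variable [Finite G] {p t x y : ℕ} {S Y : Finset (IrrCharacter G)} {a : IrrCharacter G → ℤ} {δ : ℤ}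
  {χ θ : IrrCharacter G} {w g u v : G}

theorem exists_gen_of_relIndex [Fact p.Prime] (hG : commutator G = ⊤) (P : Sylow p G)
    (hP : Nat.card P = p)
    (hN : (P : Subgroup G).relIndex (normalizer ((P : Subgroup G) : Set G)) = 2) :
    centralizer ((P : Subgroup G) : Set G) = P := by
  have : IsMulCommutative P := (isCyclic_of_prime_card hP).isMulCommutative
  have h1 := (P : Subgroup G).le_centralizer
  have h2 := relIndex_mul_relIndex _ _ _ h1 (centralizer_le_normalizer ((P : Subgroup G) : Set G))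
  have h3 := two_le_relIndex hG P hP
  rw [hN] at h2
  refine le_antisymm (relIndex_eq_one.1 ?_) h1
  rcases (Nat.dvd_prime Nat.prime_two).1 ⟨_, h2.symm⟩ with e | e
  · exact e
  · rw [e] at h2; omega

theorem exists_al [hp : Fact p.Prime] (hG : commutator G = ⊤) (P : Sylow p G) (hP : Nat.card P = p)
    (hN : (P : Subgroup G).relIndex (normalizer ((P : Subgroup G) : Set G)) = 2) :
    ∃ (t x y : ℕ) (S Y : Finset (IrrCharacter G)) (a : IrrCharacter G → ℤ) (δ : ℤ)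
      (χ θ : IrrCharacter G) (w : G), Al p t x y S Y a δ χ θ w := by
  classical
  have hC := exists_gen_of_relIndex hG P hP hN
  obtain ⟨t, S, Y, a, δ, h⟩ := exists_pb P hP
  rw [hC, hN] at h
  obtain ⟨θ, hθ⟩ := h.nonempty
  obtain ⟨χ, hχ⟩ := card_eq_one.1 (Nat.succ_injective h.card_erase)
  have h1 : χ ∈ S.erase (irrOne G) := hχ ▸ mem_singleton_self χ
  have h2 := h.sum_deg' hθ
  have h3 := χ.2.charDegree_pos
  have h4 := one_lt_charDegree hG (h.ne_one hθ)
  rw [hχ, sum_singleton] at h2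
  obtain rfl : δ = -a χ := by
    rcases h.sign with e | e <;> rcases h.signS χ (mem_of_mem_erase h1) with e' | e' <;>
      rw [e, e'] at h2 ⊢ <;> omega
  obtain ⟨w, h5, hw⟩ := exists_mem_orderOf_eq_prime (H := (P : Subgroup G)) hp.out hP.symm.dvd
  have h6 : zpowers w = P := eq_of_le_of_card_ge (zpowers_le.2 h5) (by rw [hP, Nat.card_zpowers, hw])
  exact ⟨t, _, _, S, Y, a, _, χ, θ, w, h, fun R _ F => by
      rw [← add_sum_erase _ _ h.one_mem, hχ, sum_singleton],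
    fun ξ hξ => or_iff_not_imp_left.2 fun e => mem_singleton.1 (hχ ▸ mem_erase.2 ⟨e, hξ⟩),
    mem_of_mem_erase h1, ne_of_mem_erase h1, rfl, hθ, hw,
    by rw [← centralizer_zpowers, h6, hC, hP], rfl, rfl⟩

namespace Al

variable (h : Al p t x y S Y a δ χ θ w)
include h

omit [Finite G] in
theorem sign' : δ = 1 ∨ δ = -1 := by have := h.sign; omega

theorem reg1 (hg : ¬ p ∣ orderOf g) : (θ : G → ℂ) g = (χ : G → ℂ) g + δ := by
  have h1 := h.reg θ h.mem g hg
  rw [h.hS, h.a_one, h.sgn] at h1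
  rcases h.sign' with rfl | rfl <;> simp only [irrOne_apply] at h1 <;> push_cast at h1 ⊢
  · linear_combination -h1
  · linear_combination h1

theorem hy : (y : ℤ) = x + δ := by
  have := h.reg1 h.not_dvd_one
  rw [χ.2.apply_one_eq, θ.2.apply_one_eq, h.dx, h.dy] at this
  exact_mod_cast this

theorem exists_int (hG : commutator G = ⊤) (g : G) : ∃ n : ℤ, (χ : G → ℂ) g = n := by
  refine exists_int_of_forall_ringEquiv (χ.2.isIntegral g) fun σ => ?_
  obtain ⟨k, hk, h2⟩ := exists_pow_forall_map_apply G (σ : ℂ →+* ℂ)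
  let ξ : IrrCharacter G := ⟨_, χ.2.comp_pow hk⟩
  have h3 : charDegree (ξ : G → ℂ) = x := (charDegree_congr (by simp [ξ])).trans h.dx
  refine (h2 _ χ.2.isGeneralizedCharacter g).trans ?_
  rcases h.comp_pow_mem (ξ := ξ) (.inl h.memS) hk fun _ => rfl with h4 | h4
  · rcases h.cases ξ h4 with h6 | h6
    · have := one_lt_charDegree hG h.ne
      rw [h6, coe_irrOne, charDegree_one] at h3
      have := h.dx
      omega
    · exact congrFun (congrArg Subtype.val h6) g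
  · have := h.hy
    have := h.sign'
    rw [h.deg_eq h.mem h4, h.dy] at h3
    omega

theorem not_dvd_cent (h1 : v ≠ 1) (h2 : ¬ p ∣ orderOf v) :
    ¬ p ∣ Nat.card (centralizer ({v} : Set G)) := fun h3 => by
  obtain ⟨z, h4, h5⟩ := exists_mem_orderOf_eq_prime h.prime h3
  have h6 := (show Commute z v from mem_centralizer_singleton_iff.1 h4)
    |>.orderOf_mul_eq_mul_orderOf_of_coprime (h5 ▸ h.prime.coprime_iff_not_dvd.2 h2)
  rw [orderOf_eq_of_selfCent h.toPB0 h.ord h.cent (h6 ▸ h5 ▸ dvd_mul_right _ _), h5] at h6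
  exact h1 (orderOf_eq_one_iff.1 (Nat.eq_of_mul_eq_mul_left h.prime.pos (by omega)))

theorem pairs (hu : ¬ p ∣ orderOf u) (hv : ¬ p ∣ orderOf v) :
    (Nat.card {q : G × G // IsConj u q.1 ∧ IsConj v q.2 ∧ q.1 * q.2 = w} : ℂ) *
      (Nat.card (centralizer ({u} : Set G)) * Nat.card (centralizer ({v} : Set G))) * (x * y) =
      Nat.card G * ((x - (χ : G → ℂ) u) * (x - (χ : G → ℂ) v)) := by
  classical
  rw [card_class_mul_eq, h.sum_eq, sum_eq_zero (s := (S ∪ Y)ᶜ) fun χ hχ => by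
      rw [h.apply_eq_zero h.ord h.cent (fun e => by simp [e] at hχ) fun e => by simp [e] at hχ]
      simp,
    sum_congr (s₁ := Y) rfl (g := fun η => conj ((η : G → ℂ) w) *
      ((θ : G → ℂ) u * (θ : G → ℂ) v / (θ : G → ℂ) 1)) fun η hη => by
        rw [h.reg_eq h.mem hη hu, h.reg_eq h.mem hη hv, h.reg_eq h.mem hη h.not_dvd_one]; ring,
    ← sum_mul, ← map_sum, h.singY w h.ord.symm.dvd, h.hS, h.singS χ h.memS w h.ord.symm.dvd, h.sgn,
    h.reg1 hu, h.reg1 hv, θ.2.apply_one_eq, χ.2.apply_one_eq, h.dx, h.dy]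
  have h1 : ∀ u : G, (Nat.card (centralizer ({u} : Set G)) : ℂ) ≠ 0 := fun u =>
    Nat.cast_ne_zero.2 Nat.card_pos.ne'
  have h2 : ∀ u : G, ((centralizer ({u} : Set G)).index : ℂ) =
      Nat.card G / Nat.card (centralizer ({u} : Set G)) := fun u =>
    eq_div_of_mul_eq (h1 u) (by exact_mod_cast index_mul_card _)
  have h3 := h1 u
  have h3' := h1 v
  have h4 := card_ne_zero_complex G
  have h5 : (x : ℂ) ≠ 0 := Nat.cast_ne_zero.2 (h.dx ▸ χ.2.charDegree_pos.ne')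
  have h6 : (y : ℂ) ≠ 0 := Nat.cast_ne_zero.2 (h.dy ▸ θ.2.charDegree_pos.ne')
  have h7 : (y : ℂ) = x + δ := by exact_mod_cast h.hy
  have h8 : (δ : ℂ) ^ 2 = 1 := by rcases h.sign' with rfl | rfl <;> simp
  simp only [irrOne_apply, map_intCast, map_one, h2]
  push_cast
  field_simp
  rw [h7]
  linear_combination ((χ : G → ℂ) u * (χ : G → ℂ) v - x * ((χ : G → ℂ) u + (χ : G → ℂ) v) -
    x * δ) * h8

theorem dvd_pairs (h1 : u ≠ 1) (hu : ¬ p ∣ orderOf u) :
    p ∣ Nat.card {q : G × G // IsConj u q.1 ∧ IsConj v q.2 ∧ q.1 * q.2 = w} := by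
  have h2 := PSL2.card_dvd_ncard_of_free (zpowers (ConjAct.toConjAct w))
    {q : G × G | IsConj u q.1 ∧ IsConj v q.2 ∧ q.1 * q.2 = w} (fun g hg q hq =>
      ⟨hq.1.trans (isConj_iff.2 ⟨_, rfl⟩), hq.2.1.trans (isConj_iff.2 ⟨_, rfl⟩), by
        obtain ⟨k, rfl⟩ := hg
        change _ • q.1 * _ • q.2 = w
        rw [← smul_mul', hq.2.2]
        simp [ConjAct.smul_def, (Commute.zpow_self w k).eq]⟩) fun g hg q hq e => by
      by_contra h3
      have h4 := orderOf_eq_of_isConj hq.1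
      refine h.not_dvd_cent (v := q.1) (fun e => h1 (orderOf_eq_one_iff.1 (by simp [h4, e])))
        (h4 ▸ hu) ?_
      have h5 : ConjAct.ofConjAct g ∈ centralizer ({q.1} : Set G) :=
        mem_centralizer_singleton_iff.2 (mul_inv_eq_iff_eq_mul.1 (congrArg Prod.fst e))
      refine Dvd.dvd.trans (dvd_of_eq ?_) (orderOf_dvd_natCard _ h5)
      have h6 := orderOf_dvd_of_mem_zpowers hg
      rw [MulEquiv.orderOf_eq, h.ord, Nat.dvd_prime h.prime, orderOf_eq_one_iff] at h6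
      rw [MulEquiv.orderOf_eq, h6.resolve_left h3]
  rwa [Nat.card_zpowers, MulEquiv.orderOf_eq, h.ord] at h2

end Al

/-- The numerical data. -/
structure Dh (G : Type*) [Group G] (p x y m k : ℕ) (δ : ℤ) (χ θ : G → ℂ) (f : G → ℤ) : Prop where
  prime : p.Prime
  card : Nat.card G = p * (x * y * m ^ 2)
  ndvd : ¬ p ∣ x * y * m ^ 2
  sign : δ = 1 ∨ δ = -1
  hy : (y : ℤ) = x + δ
  hk : (x : ℤ) = p * k + δ
  modp : (p : ℤ) ∣ m ^ 2 - 1
  irr : IsIrrCharacter G χ
  irr' : IsIrrCharacter G θ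
  deg : charDegree χ = x
  deg' : charDegree θ = y
  val : ∀ g, χ g = f g
  sing : ∀ g, p ∣ orderOf g → orderOf g = p ∧ f g = δ
  reg : ∀ g, ¬ p ∣ orderOf g → θ g = f g + δ
  lt : ∀ g, g ≠ 1 → f g < x
  dvd : ∀ g, g ≠ 1 → ¬ p ∣ orderOf g → (Nat.card (centralizer ({g} : Set G)) : ℤ) ∣ m * (x - f g)
  inv : ∀ g, orderOf g = 2 → (Nat.card (centralizer ({g} : Set G)) : ℤ) = m * (x - f g) ∧
    |f g| ≤ k + δ ∧ |f g + δ| ≤ k
  pair : ∀ u v : G, u ≠ 1 → v ≠ 1 → ¬ p ∣ orderOf u → ¬ p ∣ orderOf v →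
    ∃ u' v', IsConj u u' ∧ IsConj v v' ∧ orderOf (u' * v') = p
  budget : ∀ X : Finset G, (∀ g ∈ X, ¬ p ∣ orderOf g) →
    p * ∑ g ∈ X, (f g + δ) ^ 2 ≤ 2 * Nat.card G

theorem Al.exists_dh [IsSimpleGroup G] (h : Al p t x y S Y a δ χ θ w) (hG : commutator G = ⊤)
    (h2 : p ≠ 2) (hs : 2 ∣ Nat.card G) : ∃ m k f, Dh G p x y m k δ χ θ f := by
  classical
  have := Fact.mk h.prime
  have := Fintype.ofFinite G
  choose f hf using h.exists_int hG
  have a1 : ∀ g, g ≠ 1 → f g < x := fun g hg => by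
    have h3 := χ.2.isCharacter.norm_le g
    have h4 : f g ≠ x := fun e => hg (mem_bot.1 (χ.2.charKer_eq_bot_of_isSimpleGroup
      (fun e => h.ne (Subtype.ext e)) ▸ χ.2.isCharacter.mem_charKer_iff.2 (by
        rw [hf, e, χ.2.apply_one_eq, h.dx, Int.cast_natCast])))
    rw [hf, χ.2.apply_one_eq, h.dx, Complex.norm_intCast, Complex.norm_natCast] at h3
    have h5 : |f g| ≤ x := by exact_mod_cast h3
    have := le_abs_self (f g)
    omega
  have a2 : ∀ u v, ¬ p ∣ orderOf u → ¬ p ∣ orderOf v →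
      (Nat.card {q : G × G // IsConj u q.1 ∧ IsConj v q.2 ∧ q.1 * q.2 = w} : ℤ) *
      (Nat.card (centralizer ({u} : Set G)) * Nat.card (centralizer ({v} : Set G))) * (x * y) =
      Nat.card G * ((x - f u) * (x - f v)) := fun u v hu hv => by
    have := h.pairs hu hv
    rw [hf, hf] at this
    exact_mod_cast this
  have a3 : ∀ u v, u ≠ 1 → v ≠ 1 → ¬ p ∣ orderOf u → ¬ p ∣ orderOf v →
      ∃ u' v', IsConj u u' ∧ IsConj v v' ∧ u' * v' = w := fun u v h3 h4 hu hv => by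
    have h5 := a2 u v hu hv
    obtain ⟨q, hq⟩ : Nonempty {q : G × G // IsConj u q.1 ∧ IsConj v q.2 ∧ q.1 * q.2 = w} := by
      refine (Nat.card_ne_zero.1 fun e => ?_).1
      rw [e, Nat.cast_zero, zero_mul, zero_mul] at h5
      exact (mul_pos (Nat.cast_pos.2 Nat.card_pos) (mul_pos (sub_pos.2 (a1 u h3))
        (sub_pos.2 (a1 v h4)))).ne h5
    exact ⟨q.1, q.2, hq⟩
  have a4 : ∀ g : G, orderOf g = 2 → g ≠ 1 ∧ ¬ p ∣ orderOf g := fun g hg =>
    ⟨fun e => by simp [e] at hg, fun e => h2 ((Nat.prime_dvd_prime_iff_eq h.prime Nat.prime_two).1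
      (hg ▸ e))⟩
  have hx : 0 < x := h.dx ▸ χ.2.charDegree_pos
  have hy : 0 < y := h.dy ▸ θ.2.charDegree_pos
  have hxy : x.Coprime y := Nat.isCoprime_iff_coprime.1
    ⟨-δ, δ, by have := h.mul_self; rw [h.hy]; linear_combination this⟩
  obtain ⟨M, hM⟩ := hxy.mul_dvd_of_dvd_of_dvd (h.dx ▸ h.dvdS h.memS h.ord)
    (h.dy ▸ h.dvdY h.mem h.ord)
  have a5 : Nat.card G = p * (x * y * M) := by rw [← hM, ← h.cent, card_mul_index]
  have a6 : ∀ u, u ≠ 1 → ¬ p ∣ orderOf u → ∃ n : ℕ, (n : ℤ) *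
      Nat.card (centralizer ({u} : Set G)) ^ 2 = M * (x - f u) ^ 2 ∧
      (orderOf u = 2 → n = 1) := fun u h3 hu => by
    obtain ⟨n, hn⟩ := h.dvd_pairs (v := u) h3 hu
    have h4 := a2 u u hu hu
    rw [hn, a5] at h4
    push_cast at h4
    have h5 : (n : ℤ) * Nat.card (centralizer ({u} : Set G)) ^ 2 = M * (x - f u) ^ 2 :=
      mul_left_cancel₀ (by have := h.prime.pos; positivity : (p * (x * y) : ℤ) ≠ 0)
        (by linear_combination h4)
    refine ⟨n, h5, fun h6 => ?_⟩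
    have h7 : p * n ≤ p * 1 := hn.symm.le.trans ((Nat.card_le_card_of_injective (Subtype.map id
      fun q hq => ⟨(orderOf_eq_of_isConj hq.1).symm.trans h6, (orderOf_eq_of_isConj hq.2.1).symm.trans
        h6, hq.2.2⟩) (Subtype.map_injective _ Function.injective_id)).trans
      ((Inv.card_pairs_le w).trans (h.cent.trans (mul_one p).symm).le))
    obtain ⟨u', v', h8⟩ := a3 u u h3 h3 hu hu
    have h9 : p * n ≠ 0 := hn ▸ Nat.card_ne_zero.2 ⟨⟨⟨(u', v'), h8⟩⟩, inferInstance⟩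
    have := Nat.le_of_mul_le_mul_left h7 h.prime.pos
    have : n ≠ 0 := by rintro rfl; simp at h9
    omega
  obtain ⟨s, hs⟩ := exists_prime_orderOf_dvd_card' 2 hs
  obtain ⟨m, rfl⟩ : ∃ m, M = m ^ 2 := by
    obtain ⟨n, h3, h4⟩ := a6 s (a4 s hs).1 (a4 s hs).2
    rw [h4 hs, Nat.cast_one, one_mul] at h3
    obtain ⟨m, hm⟩ := (Int.pow_dvd_pow_iff two_ne_zero).1 (Dvd.intro_left _ h3.symm)
    refine ⟨m.natAbs, ?_⟩
    zify
    rw [sq_abs]
    exact mul_right_cancel₀ (pow_ne_zero 2 (sub_pos.2 (a1 s (a4 s hs).1)).ne')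
      (by rw [← h3, hm]; ring)
  have a7 := h.fixS h.memS ((Nat.card_zpowers w).trans h.ord)
  have a8 := h.fixY h.mem ((Nat.card_zpowers w).trans h.ord)
  have a9 := h.hy
  rw [h.dx, h.sgn] at a7
  rw [h.dy] at a8
  have a10 : (fixDim (χ : G → ℂ) (zpowers w) : ℤ) = fixDim (θ : G → ℂ) (zpowers w) + δ :=
    mul_left_cancel₀ (Nat.cast_ne_zero.2 h.prime.ne_zero : (p : ℤ) ≠ 0)
      (by push_cast at a8; linear_combination a7 - a8 - a9)
  have a11 : ¬ p ∣ x * y * m ^ 2 := fun e => h.not_sq (a5 ▸ pow_two p ▸ mul_dvd_mul_left p e)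
  refine ⟨m, fixDim (θ : G → ℂ) (zpowers w), f, h.prime, a5, a11, h.sign', a9,
    by push_cast at a8; linear_combination -a9 - a8, ?_, χ.2, θ.2, h.dx, h.dy, hf, fun g hg =>
    ⟨orderOf_eq_of_selfCent h.toPB0 h.ord h.cent hg, ?_⟩, fun g hg => hf g ▸ h.reg1 hg, a1,
    fun g h3 hg => ?_, fun g hg => ⟨?_, ?_⟩, fun u v h3 h4 hu hv => ?_, fun X hX => ?_⟩
  · obtain ⟨n, hn⟩ := exists_card_sylow_eq (G := G) (p := p)
    have h3 := Nat.eq_of_mul_eq_mul_left h.prime.pos (a5.symm.trans (h.card_eq h.ord h.cent))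
    rw [hn] at h3
    zify at h3
    have h4 := h.mul_self
    generalize fixDim (θ : G → ℂ) (zpowers w) = k at *
    have h5 : (x : ℤ) = p * k + δ := by push_cast at a8; linear_combination -a9 - a8
    refine ((Nat.prime_iff_prime_int.1 h.prime).dvd_or_dvd (a := 2) ⟨2 * n - (p * k ^ 2 + 3 * k * δ)
      * m ^ 2, ?_⟩).resolve_left fun e => h2 ((Nat.prime_dvd_prime_iff_eq h.prime
        Nat.prime_two).1 (Int.natCast_dvd_natCast.1 e))
    rw [a9, h5] at h3
    linear_combination h3 - 2 * m ^ 2 * h4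
  · have := h.singS χ h.memS g hg
    rw [hf, h.sgn] at this
    exact_mod_cast this
  · obtain ⟨n, h4, -⟩ := a6 g h3 hg
    exact (Int.pow_dvd_pow_iff two_ne_zero).1 ⟨n, by push_cast at h4; linear_combination -h4⟩
  · obtain ⟨n, h3, h4⟩ := a6 g (a4 g hg).1 (a4 g hg).2
    rw [h4 hg] at h3
    refine (pow_left_inj₀ (by positivity) (mul_nonneg (by positivity) (sub_pos.2
      (a1 g (a4 g hg).1)).le) two_ne_zero).1 (by push_cast at h3; linear_combination h3)
  · obtain ⟨u, v, h3, h4, h5⟩ := a3 g g (a4 g hg).1 (a4 g hg).1 (a4 g hg).2 (a4 g hg).2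
    have h6 := (orderOf_eq_of_isConj h3).symm.trans hg
    have h7 : u * u = 1 := by rw [← pow_two, ← h6, pow_orderOf_eq_one]
    have h8 : v * v = 1 := by
      rw [← pow_two, ← (orderOf_eq_of_isConj h4).symm.trans hg, pow_orderOf_eq_one]
    have h9 : u * w * u⁻¹ = w⁻¹ := by
      rw [← h5, ← mul_assoc, h7, one_mul, mul_inv_rev, inv_eq_of_mul_eq_one_right h8]
    have h10 : u ∈ normalizer ((zpowers w : Subgroup G) : Set G) :=
      PGroup.mem_normalizer_zpowers (k := -1) (h9.trans (zpow_neg_one w).symm)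
    have h11 : u ∉ zpowers w := fun e => h2 (by
      have := orderOf_dvd_of_mem_zpowers e
      rw [h6, h.ord] at this
      exact ((Nat.prime_dvd_prime_iff_eq Nat.prime_two h.prime).1 this).symm)
    have h12 := norm_avg_le χ.2.isCharacter h10
    have h13 := norm_avg_le θ.2.isCharacter h10
    rw [avg_eq_of_selfCent χ.2.isClassFunction h.ord h.cent h10 h11,
      ← χ.2.isClassFunction.eq_of_isConj h3, hf, Complex.norm_intCast] at h12
    rw [avg_eq_of_selfCent θ.2.isClassFunction h.ord h.cent h10 h11,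
      ← θ.2.isClassFunction.eq_of_isConj h3, h.reg1 (a4 g hg).2, hf, ← Int.cast_add,
      Complex.norm_intCast] at h13
    exact ⟨a10 ▸ by exact_mod_cast h12, by exact_mod_cast h13⟩
  · obtain ⟨u', v', h5, h6, h7⟩ := a3 u v h3 h4 hu hv
    exact ⟨u', v', h5, h6, h7 ▸ h.ord⟩
  · have h3 := Np.sum_reg_sq h.toPB h.mem fun g hg => orderOf_eq_of_selfCent h.toPB0 h.ord h.cent hg
    have h4 : ∑ g ∈ X, ‖(θ : G → ℂ) g‖ ^ 2 ≤ ∑ g with ¬ p ∣ orderOf g, ‖(θ : G → ℂ) g‖ ^ 2 :=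
      sum_le_sum_of_subset_of_nonneg (fun g hg => mem_filter.2 ⟨mem_univ _, hX g hg⟩)
        fun _ _ _ => by positivity
    rw [sum_congr rfl (g := fun g => ((f g + δ : ℤ) : ℝ) ^ 2) fun g hg => by
      rw [h.reg1 (hX g hg), hf, ← Int.cast_add, Complex.norm_intCast, sq_abs]] at h4
    have h5 := (mul_le_mul_of_nonneg_left h4 (Nat.cast_nonneg p)).trans_eq h3
    exact_mod_cast h5

end Cfsg.Lib.Alex
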