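import Cfsg.Agent.Lib.Alex.Stormer

/-!
# The numerical sieve
-/

set_option autoImplicit false

namespace Cfsg.Lib.Alex

/-- The conditions given by an `r`-central element of order `r`. -/
structure Cnd (p x y m k r n : ℕ) : Prop where
  pos : 0 < n
  lex : (r - 1) * n ≤ x
  ley : (r - 1) * n ≤ y
  dvd : ∀ j, r ^ j ∣ p * (x * y * m ^ 2) → r ^ j ∣ m * (r * n)
  bud : p * ((y - r * n) + (r * n - y)) ^ 2 ≤ 2 * (m * (r * n))
  zx : ¬ r ∣ m → r ∣ x → r * n = x
  zy : ¬ r ∣ m → r ∣ y → r * n = y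
  two : r = 2 → 2 ∣ n ∧ r * n ∣ p * (x * y * m) ∧ (x - r * n) + (r * n - x) + x ≤ k + y ∧
    (y - r * n) + (r * n - y) ≤ k

/-- Boolean version of `Cnd`. -/
def cndB (p x y m k r g n : ℕ) : Bool :=
  m * (r * n) % g == 0 && decide (0 < n) && decide ((r - 1) * n ≤ x) && decide ((r - 1) * n ≤ y) &&
  decide (p * ((y - r * n) + (r * n - y)) ^ 2 ≤ 2 * (m * (r * n))) &&
  (m % r == 0 || x % r != 0 || r * n == x) && (m % r == 0 || y % r != 0 || r * n == y) &&
  (r != 2 || (n % 2 == 0 && p * (x * y * m) % (r * n) == 0 &&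
    decide ((x - r * n) + (r * n - x) + x ≤ k + y) && decide ((y - r * n) + (r * n - y) ≤ k)))

/-- The test at the prime `r`. -/
def okB (p x y m k r : ℕ) : Bool :=
  r == p || p * (x * y * m ^ 2) % r != 0 ||
    (List.range (x + 1)).any (cndB p x y m k r (Nat.gcd (p * (x * y * m ^ 2)) (r ^ 40)))

variable {p x y m k r n : ℕ}

theorem okB_of (hr : r.Prime) (h : r ≠ p → r ∣ p * (x * y * m ^ 2) → ∃ n, Cnd p x y m k r n) :
    okB p x y m k r = true := by
  simp only [okB, Bool.or_eq_true, beq_iff_eq, bne_iff_ne, List.any_eq_true, List.mem_range]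
  refine or_iff_not_imp_left.2 fun h0 => ?_
  rw [not_or, not_not] at h0
  obtain ⟨n, h⟩ := h h0.1 (Nat.dvd_of_mod_eq_zero h0.2)
  have h1 := h.lex
  have h2 := Nat.le_mul_of_pos_left n (by have := hr.two_le; omega : 0 < r - 1)
  refine ⟨n, by omega, ?_⟩
  obtain ⟨j, -, hj⟩ := (Nat.dvd_prime_pow hr).1 (Nat.gcd_dvd_right (p * (x * y * m ^ 2)) (r ^ 40))
  have h3 := h.dvd j (hj ▸ Nat.gcd_dvd_left _ _)
  have h4 := h.zx
  have h5 := h.zy
  have h6 := h.two
  simp only [Nat.dvd_iff_mod_eq_zero] at h3 h4 h5 h6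
  simp only [cndB, hj, Bool.and_eq_true, Bool.or_eq_true, beq_iff_eq, bne_iff_ne, decide_eq_true_eq]
  exact ⟨⟨⟨⟨⟨⟨⟨h3, h.pos⟩, h1⟩, h.ley⟩, h.bud⟩, by tauto⟩, by tauto⟩, by tauto⟩

theorem Cnd.pow_le (h : Cnd p x y m k r n) (hr : r.Prime) {i m' : ℕ} (h1 : m = r ^ i * m')
    (h2 : ¬ r ∣ m') : r ^ i ≤ 2 * x := by
  have h3 := h.dvd (i + i) (by rw [h1]; exact ⟨p * (x * y * m' ^ 2), by ring⟩)
  rw [pow_add, h1, mul_assoc, Nat.mul_dvd_mul_iff_left (pow_pos hr.pos i)] at h3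
  have h4 := Nat.le_of_dvd (Nat.mul_pos hr.pos h.pos)
    (((hr.coprime_iff_not_dvd.2 h2).pow_left i).dvd_of_dvd_mul_left h3)
  have h5 := h.lex
  obtain ⟨s, rfl⟩ : ∃ s, r = s + 2 := ⟨r - 2, by have := hr.two_le; omega⟩
  rw [show s + 2 - 1 = s + 1 from rfl] at h5
  nlinarith

/-- The surviving quadruples `(x, y, p, m)`. -/
def survivors : List (ℕ × ℕ × ℕ × ℕ) :=
  [(4, 3, 5, 1), (8, 9, 7, 1), (16, 15, 17, 1), (20, 21, 19, 1), (24, 25, 23, 1), (28, 27, 29, 1),
    (36, 35, 37, 1), (48, 49, 47, 1), (80, 81, 79, 1), (224, 225, 223, 1), (2400, 2401, 2399, 1),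
    (9, 8, 5, 1), (25, 24, 13, 1), (27, 28, 13, 1), (81, 80, 41, 1), (2401, 2400, 1201, 1),
    (15, 16, 7, 1), (21, 20, 11, 1), (35, 36, 17, 1), (63, 64, 31, 1), (225, 224, 113, 1),
    (49, 48, 5, 1), (64, 63, 5, 1), (64, 63, 13, 1), (6, 7, 5, 4), (21, 20, 11, 45),
    (27, 28, 13, 25), (49, 48, 5, 9), (64, 63, 5, 21), (64, 63, 13, 25), (64, 63, 13, 105)]

/-- The test for a value of `m`. -/
def chkM (x y p m : ℕ) : Bool :=
  m * m % p != 1 || !(okB p x y m ((2 * x - y) / p) 2 && okB p x y m ((2 * x - y) / p) 3 &&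
    okB p x y m ((2 * x - y) / p) 5 && okB p x y m ((2 * x - y) / p) 7) ||
  decide ((x, y, p, m) ∈ survivors)

/-- The test for a pair of degrees. -/
def chkD (x y : ℕ) : Bool :=
  (List.range (2 * x - y + 1)).all fun p => (2 * x - y) % p != 0 || decide (p < 5) ||
    (List.range p).any (fun d => decide (1 < d) && p % d == 0) ||
    (List.range 14).all fun i => decide (2 * x < 2 ^ i) ||
    (List.range 9).all fun j => decide (2 * x < 3 ^ j) ||
    (List.range 6).all fun k => decide (2 * x < 5 ^ k) ||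
    (List.range 5).all fun l => decide (2 * x < 7 ^ l) || chkM x y p (2 ^ i * 3 ^ j * 5 ^ k * 7 ^ l)

theorem chkD_all : stormerList.all (fun n => chkD n (n + 1) && chkD (n + 1) n) = true := by
  decide +kernel

theorem exists_eq_pow_of_sm7 (h : Sm7 m) (h0 : m ≠ 0) :
    ∃ i j k l, m = 2 ^ i * 3 ^ j * 5 ^ k * 7 ^ l := by
  obtain ⟨i, a, h2, rfl⟩ := Nat.exists_eq_pow_mul_and_not_dvd h0 2 (by decide)
  obtain ⟨j, b, h3, rfl⟩ := Nat.exists_eq_pow_mul_and_not_dvd (n := a) (by rintro rfl; simp at h0)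
    3 (by decide)
  obtain ⟨k, c, h5, rfl⟩ := Nat.exists_eq_pow_mul_and_not_dvd (n := b) (by rintro rfl; simp at h0)
    5 (by decide)
  obtain ⟨l, d, h7, rfl⟩ := Nat.exists_eq_pow_mul_and_not_dvd (n := c) (by rintro rfl; simp at h0)
    7 (by decide)
  obtain rfl : d = 1 := by
    by_contra e
    obtain ⟨r, hr, h8⟩ := Nat.exists_prime_and_dvd e
    have := prime_dvd_210 hr (h r hr ((((h8.mul_left _).mul_left _).mul_left _).mul_left _))
    simp only [List.mem_cons, List.not_mem_nil, or_false] at this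
    rcases this with rfl | rfl | rfl | rfl
    · exact h2 (((h8.mul_left _).mul_left _).mul_left _)
    · exact h3 ((h8.mul_left _).mul_left _)
    · exact h5 (h8.mul_left _)
    · exact h7 h8
  exact ⟨i, j, k, l, by ring⟩

theorem mem_survivors (hp : p.Prime) (h5 : 5 ≤ p) (hx : 1 < x) (h0 : 0 < y) (hm : m ≠ 0)
    (hs : Sm7 (x * y * m ^ 2)) (hy : y = x + 1 ∨ x = y + 1) (hk : p * k + y = 2 * x)
    (hpm : ¬ p ∣ m) (h1 : m * m % p = 1)
    (h : ∀ r, r.Prime → r ≠ p → r ∣ p * (x * y * m ^ 2) → ∃ n, Cnd p x y m k r n) :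
    (x, y, p, m) ∈ survivors := by
  have a1 := hs.of_dvd ((dvd_mul_right x y).mul_right _)
  have a2 := hs.of_dvd ((dvd_mul_left y x).mul_right _)
  have a3 : chkD x y = true ∧ x ≤ 4375 := by
    have h2 : ∀ n ∈ stormerList, n ≤ 4374 := by decide
    have h3 := List.all_eq_true.1 chkD_all
    simp only [Bool.and_eq_true] at h3
    rcases hy with rfl | rfl
    · have := stormer (by omega) a1 a2
      exact ⟨(h3 _ this).1, by have := h2 _ this; omega⟩
    · have := stormer h0 a2 a1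
      exact ⟨(h3 _ this).2, by have := h2 _ this; omega⟩
  obtain ⟨i, j, s, l, e⟩ := exists_eq_pow_of_sm7
    (hs.of_dvd ((dvd_pow_self m two_ne_zero).mul_left _)) hm
  have a4 : ∀ r, r.Prime → ∀ i m', m = r ^ i * m' → ¬ r ∣ m' → r ^ i ≤ 2 * x := fun r hr i m' e h2 => by
    rcases i with _ | i
    · rw [pow_zero]; omega
    have h3 : r ∣ m := e ▸ (dvd_pow_self r i.succ_ne_zero).mul_right _
    obtain ⟨n, hn⟩ := h r hr (by rintro rfl; exact hpm h3)
      (((h3.pow two_ne_zero).mul_left _).mul_left _)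
    exact hn.pow_le hr e h2
  have a5 : ∀ r a b c : ℕ, r.Prime → r.Coprime a → r.Coprime b → r.Coprime c → ∀ i j k : ℕ,
      ¬ r ∣ a ^ i * b ^ j * c ^ k := fun r a b c hr h2 h3 h4 i j k => hr.coprime_iff_not_dvd.1
    (((h2.pow_right i).mul_right (h3.pow_right j)).mul_right (h4.pow_right k))
  have b2 := a4 2 Nat.prime_two i _ (by rw [e]; ring)
    (a5 2 3 5 7 Nat.prime_two (by norm_num) (by norm_num) (by norm_num) j s l)
  have b3 := a4 3 Nat.prime_three j _ (by rw [e]; ring)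
    (a5 3 2 5 7 Nat.prime_three (by norm_num) (by norm_num) (by norm_num) i s l)
  have b5 := a4 5 Nat.prime_five s _ (by rw [e]; ring)
    (a5 5 2 3 7 Nat.prime_five (by norm_num) (by norm_num) (by norm_num) i j l)
  have b7 := a4 7 (by norm_num) l _ (by rw [e]; ring)
    (a5 7 2 3 5 (by norm_num) (by norm_num) (by norm_num) (by norm_num) i j s)
  have a6 : ∀ r i n : ℕ, 1 < r → r ^ i ≤ 2 * x → 8750 < r ^ n → i < n := fun r i n hr h2 h3 =>
    (Nat.pow_lt_pow_iff_right hr).1 (by omega)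
  have a7 : (2 * x - y) / p = k := by rw [← hk, Nat.add_sub_cancel, Nat.mul_div_cancel_left _ hp.pos]
  have a8 := a3.1
  simp only [chkD, List.all_eq_true, List.mem_range, Bool.or_eq_true, bne_iff_ne, decide_eq_true_eq,
    List.any_eq_true, Bool.and_eq_true, beq_iff_eq] at a8
  have a9 : p ∣ 2 * x - y := ⟨k, by omega⟩
  rcases a8 p (Nat.lt_succ_of_le (Nat.le_of_dvd (by omega) a9)) with ((h2 | h2) | h2) | h2
  · exact absurd (Nat.mod_eq_zero_of_dvd a9) h2
  · omega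
  · obtain ⟨d, h2, h3, h4⟩ := h2
    rcases (Nat.dvd_prime hp).1 (Nat.dvd_of_mod_eq_zero h4) with h6 | h6 <;> omega
  have h3 := ((((h2 i (a6 2 i 14 (by decide) b2 (by decide))).resolve_left (by omega) j
    (a6 3 j 9 (by decide) b3 (by decide))).resolve_left (by omega) s
    (a6 5 s 6 (by decide) b5 (by decide))).resolve_left (by omega) l
    (a6 7 l 5 (by decide) b7 (by decide))).resolve_left (by omega)
  rw [← e, chkM, a7, okB_of Nat.prime_two (h 2 Nat.prime_two), okB_of Nat.prime_three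
    (h 3 Nat.prime_three), okB_of Nat.prime_five (h 5 Nat.prime_five),
    okB_of (r := 7) (by norm_num) (h 7 (by norm_num)), h1] at h3
  simpa using h3

end Cfsg.Lib.Alex
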