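import Cfsg.Agent.Lib.Alex.Basic
import Cfsg.Agent.Lib.Alex.Sieve
import Cfsg.Agent.Lib.FGS.FrobCount

/-!
# The local conditions
-/

set_option autoImplicit false

namespace Cfsg.Lib.Alex

open Cfsg.Lib.Char Cfsg.Lib.Small Cfsg.Lib.Cyc Subgroup Finset

variable {G : Type*} [Group G] [Finite G] {p x y m k r n : ℕ} {δ : ℤ} {χ θ : G → ℂ} {f : G → ℤ}
  {g u v : G}

theorem dvd_card_of_index {X : Finset G} (h1 : ∀ g ∈ X, ∀ c, c * g * c⁻¹ ∈ X)
    (h2 : ∀ g ∈ X, n ∣ (centralizer ({g} : Set G)).index) : n ∣ #X := by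
  have := dvd_ncard_of_orbits (A := ConjAct G) (k := n) (s := (X : Set G))
    (fun c g hg => h1 g hg _) fun g hg => by
      convert h2 g hg
      rw [← ncard_isConj_eq_index]
      congr 1
      ext z
      exact ConjAct.mem_orbit_conjAct.trans isConj_comm
  rwa [Set.ncard_coe_finset] at this

theorem index_conj (g c : G) :
    (centralizer ({c * g * c⁻¹} : Set G)).index = (centralizer ({g} : Set G)).index := by
  rw [← ncard_isConj_eq_index, ← ncard_isConj_eq_index]
  congr 1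
  ext z
  exact ⟨(isConj_iff.2 ⟨c, rfl⟩).trans, (isConj_iff.2 ⟨c, rfl⟩).symm.trans⟩

open Classical in
theorem dvd_card_central [Fintype G] (hr : r.Prime) (h : r ∣ Nat.card G) :
    r ∣ #{g : G | orderOf g = r ∧ ¬ r ∣ (centralizer ({g} : Set G)).index} + 1 := by
  have := Fact.mk hr
  have h1 := FGS.dvd_card_pow_eq_one h
  have h2 : r ∣ #{g : G | orderOf g = r ∧ r ∣ (centralizer ({g} : Set G)).index} :=
    dvd_card_of_index (fun g hg c => by
      rw [mem_filter_univ, index_conj, ← orderOf_eq_of_isConj (isConj_iff.2 ⟨c, rfl⟩)]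
      exact (mem_filter.1 hg).2)
      fun g hg => (mem_filter.1 hg).2.2
  have h3 : #{g : G | g ^ r = 1} = #{g : G | orderOf g = r} + 1 := by
    rw [← card_insert_of_notMem (a := (1 : G)) (by simpa using hr.one_lt.ne)]
    congr 1
    ext g
    by_cases e : g = 1 <;> simp [orderOf_eq_prime_iff, e]
  rw [Nat.card_eq_fintype_card, Fintype.card_subtype, h3,
    ← card_filter_add_card_filter_not (fun g : G => r ∣ (centralizer ({g} : Set G)).index),
    filter_filter, filter_filter, add_assoc] at h1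
  exact (Nat.dvd_add_right h2).1 h1

theorem pow_dvd_card_cent (hr : r.Prime) (h : ¬ r ∣ (centralizer ({g} : Set G)).index) {j : ℕ}
    (h1 : r ^ j ∣ Nat.card G) : r ^ j ∣ Nat.card (centralizer ({g} : Set G)) :=
  ((hr.coprime_iff_not_dvd.2 h).pow_left j).dvd_of_dvd_mul_right ((centralizer ({g} : Set G)).card_mul_index ▸ h1)

namespace Dh

variable (h : Dh G p x y m k δ χ θ f)
include h

theorem conj (e : IsConj u v) : f u = f v := by
  have := h.irr.isClassFunction.eq_of_isConj e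
  rw [h.val, h.val] at this
  exact_mod_cast this

theorem const (hr : r.Prime) (hu : orderOf u = r) (h1 : v ∈ zpowers u) (h2 : v ≠ 1) : f v = f u := by
  obtain ⟨j, rfl⟩ := mem_powers_iff_mem_zpowers.2 h1
  have := h.irr.isGeneralizedCharacter.apply_pow_eq_of_rat (g := u) (q := f u) (k := j)
    (by rw [h.val, Rat.cast_intCast]) (hu ▸ (hr.coprime_iff_not_dvd.2 fun e =>
      h2 (orderOf_dvd_iff_pow_eq_one.1 (hu ▸ e))).symm)
  rw [h.val, h.val] at this
  exact_mod_cast this

omit [Finite G] in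
theorem not_dvd (hr : r.Prime) (hp : r ≠ p) (hu : orderOf u = r) : u ≠ 1 ∧ ¬ p ∣ orderOf u :=
  ⟨fun e => hr.one_lt.ne (by rw [← hu, e, orderOf_one]),
    fun e => hp ((Nat.prime_dvd_prime_iff_eq h.prime hr).1 (hu ▸ e)).symm⟩

theorem exists_nat (hr : r.Prime) (hp : r ≠ p) (hu : orderOf u = r) :
    ∃ n : ℕ, x - f u = r * n ∧ 0 < n ∧ (r - 1) * n ≤ x ∧ (r - 1) * n ≤ y := by
  have h1 := card_mul_fixDim_of_const h.irr.isCharacter (A := zpowers u) (c := f u)
    fun z hz h1 => by rw [h.val, h.const hr hu hz h1]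
  have h2 := card_mul_fixDim_of_const h.irr'.isCharacter (A := zpowers u) (c := f u + δ)
    fun z hz h1 => by
      rw [h.reg z fun e => (h.not_dvd hr hp hu).2 (e.trans (orderOf_dvd_of_mem_zpowers hz)),
        h.const hr hu hz h1, Int.cast_add]
  rw [Nat.card_zpowers, hu, h.deg] at h1
  rw [Nat.card_zpowers, hu, h.deg'] at h2
  have h3 := h.lt u (h.not_dvd hr hp hu).1
  have h4 := h.hy
  have h5 : (0 : ℤ) < r := by exact_mod_cast hr.pos
  have h6 : x - f u = r * (fixDim χ (zpowers u) - f u) := by linear_combination -h1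
  have h7 : 0 < fixDim χ (zpowers u) - f u := (mul_pos_iff_of_pos_left h5).1 (h6 ▸ sub_pos.2 h3)
  obtain ⟨n, hn⟩ := Int.eq_ofNat_of_zero_le h7.le
  have h8 : (fixDim θ (zpowers u) : ℤ) - (f u + δ) = n :=
    mul_left_cancel₀ h5.ne' (by rw [← hn]; linear_combination h2 - h1 + h4)
  have h9 := hr.one_le
  rw [hn] at h6 h7
  refine ⟨n, h6, by exact_mod_cast h7, ?_, ?_⟩ <;> zify [h9] <;> linarith [Int.natCast_nonneg
    (fixDim χ (zpowers u)), Int.natCast_nonneg (fixDim θ (zpowers u))]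

omit [Finite G] in
theorem coprime : x.Coprime y := Nat.isCoprime_iff_coprime.1
  ⟨-δ, δ, by rcases h.sign with e | e <;> rw [h.hy, e] <;> ring⟩

theorem zero_x (hr : r.Prime) (hp : r ≠ p) (h1 : ¬ r ∣ m) (h2 : r ∣ x) (h3 : r ∣ orderOf g) :
    f g = 0 := by
  have := Np.vanish h.irr (k := p * (y * m ^ 2)) (by rw [h.card, h.deg]; ring) hr (fun e => by
    rcases hr.dvd_mul.1 e with e | e
    · exact hp ((Nat.prime_dvd_prime_iff_eq hr h.prime).1 e)
    · exact (hr.dvd_mul.1 e).elim (fun e => hr.not_dvd_one (h.coprime ▸ Nat.dvd_gcd h2 e))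
        fun e => h1 (hr.dvd_of_dvd_pow e)) h3
  rw [h.val] at this
  exact_mod_cast this

theorem zero_y (hr : r.Prime) (hp : r ≠ p) (h1 : ¬ r ∣ m) (h2 : r ∣ y) (h3 : r ∣ orderOf g) :
    f g + δ = 0 := by
  have := Np.vanish h.irr' (k := p * (x * m ^ 2)) (by rw [h.card, h.deg']; ring) hr (fun e => by
    rcases hr.dvd_mul.1 e with e | e
    · exact hp ((Nat.prime_dvd_prime_iff_eq hr h.prime).1 e)
    · exact (hr.dvd_mul.1 e).elim (fun e => hr.not_dvd_one (h.coprime ▸ Nat.dvd_gcd e h2))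
        fun e => h1 (hr.dvd_of_dvd_pow e)) h3
  rw [h.reg g fun e => hp ((Nat.prime_dvd_prime_iff_eq hr h.prime).1 ((h.sing g e).1 ▸ h3))] at this
  exact_mod_cast this

open Classical in
theorem budget_class [Fintype G] (hg : ¬ p ∣ orderOf g) :
    ∑ z with IsConj g z, (f z + δ) ^ 2 = (centralizer ({g} : Set G)).index * (f g + δ) ^ 2 := by
  rw [sum_congr rfl fun z hz => by rw [← h.conj (mem_filter.1 hz).2], sum_const, nsmul_eq_mul,
    ← ncard_isConj_eq_index, ← coe_filter_univ, Set.ncard_coe_finset]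

theorem sq_le (hg : ¬ p ∣ orderOf g) :
    p * (f g + δ) ^ 2 ≤ 2 * Nat.card (centralizer ({g} : Set G)) := by
  classical
  have := Fintype.ofFinite G
  have h1 := h.budget {z | IsConj g z} fun z hz => orderOf_eq_of_isConj (mem_filter.1 hz).2 ▸ hg
  rw [h.budget_class hg, ← (centralizer ({g} : Set G)).card_mul_index] at h1
  have h2 : (0 : ℤ) < (centralizer ({g} : Set G)).index :=
    Nat.cast_pos.2 (Nat.pos_of_ne_zero index_ne_zero_of_finite)
  push_cast at h1
  nlinarith

theorem four_dvd (hG : commutator G = ⊤) (hu : orderOf u = 2) : 4 ∣ x - f u := by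
  obtain ⟨a, b, h1, h2, h3⟩ := exists_mult_two h.irr.isCharacter (hu ▸ pow_orderOf_eq_one u)
  rw [h.val, Int.cast_inj] at h2
  have := h3 hG
  rw [h.deg] at h1
  omega

theorem m_pos : 0 < m := Nat.pos_of_ne_zero fun e => h.ndvd (by simp [e])

theorem cnd (hG : commutator G = ⊤) (hr : r.Prime) (hp : r ≠ p) (h1 : r ∣ p * (x * y * m ^ 2)) :
    ∃ n, Cnd p x y m k r n := by
  have := Fact.mk hr
  obtain ⟨u, hu, h2⟩ := Block.exists_central_pElt (h.card ▸ h1)
  obtain ⟨n, h3, h4, h5, h6⟩ := h.exists_nat hr hp hu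
  obtain ⟨h7, h8⟩ := h.not_dvd hr hp hu
  have h9 := h.dvd u h7 h8
  have h10 := h.hy
  have h11 := h.m_pos
  rw [h3] at h9
  have h12 : Nat.card (centralizer ({u} : Set G)) ∣ m * (r * n) := by exact_mod_cast h9
  have h13 : (((y - r * n) + (r * n - y) : ℕ) : ℤ) = |f u + δ| := by
    rw [← Nat.cast_mul] at h3
    rcases abs_cases (f u + δ) with e | e <;> omega
  refine ⟨n, h4, h5, h6, fun j hj => (pow_dvd_card_cent hr h2 (h.card ▸ hj)).trans h12, ?_,
    fun e e' => ?_, fun e e' => ?_, ?_⟩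
  · have h14 := Nat.le_of_dvd (by have := hr.pos; positivity) h12
    have h15 := h.sq_le h8
    rw [← sq_abs, ← h13] at h15
    have h16 : p * ((y - r * n) + (r * n - y)) ^ 2 ≤ 2 * Nat.card (centralizer ({u} : Set G)) := by
      exact_mod_cast h15
    omega
  · have := h.zero_x hr hp e e' hu.symm.dvd
    zify; omega
  · have := h.zero_y hr hp e e' hu.symm.dvd
    zify; omega
  · rintro rfl
    obtain ⟨h14, h15, h16⟩ := h.inv u hu
    have h17 := h.four_dvd hG hu
    have h18 := card_subgroup_dvd_card (centralizer ({u} : Set G))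
    rw [h3] at h14
    rw [show Nat.card (centralizer ({u} : Set G)) = m * (2 * n) by exact_mod_cast h14, h.card,
      show p * (x * y * m ^ 2) = m * (p * (x * y * m)) by ring, Nat.mul_dvd_mul_iff_left h11] at h18
    refine ⟨by omega, h18, ?_, by omega⟩
    rcases abs_cases (f u) with e | e <;> omega

theorem mem (hG : commutator G = ⊤) (h5 : 5 ≤ p) (h2 : 2 ∣ Nat.card G)
    (hs : Sm7 (x * y * m ^ 2)) : (x, y, p, m) ∈ survivors := by
  have h1 := h.hy
  have h3 := h.hk
  have h4 := h.sign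
  have h6 := h.modp
  have h7 := h.m_pos
  obtain ⟨u, hu⟩ := exists_prime_orderOf_dvd_card' 2 h2
  have h8 := h.four_dvd hG hu
  have h9 := h.lt u fun e => by simp [e] at hu
  have h10 := h.irr.isCharacter.norm_le u
  rw [h.val, h.irr.apply_one_eq, h.deg, Complex.norm_intCast, Complex.norm_natCast] at h10
  have h11 : |f u| ≤ x := by exact_mod_cast h10
  have h12 := neg_abs_le (f u)
  refine mem_survivors (k := k) h.prime h5 (by omega) (h.deg' ▸ h.irr'.charDegree_pos) h7.ne' hs
    (by omega) (by zify; omega) (fun e => h.ndvd ((e.pow two_ne_zero).mul_left _)) ?_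
    fun r => h.cnd hG
  rw [← Nat.mod_eq_of_lt h.prime.one_lt]
  exact ((Nat.modEq_iff_dvd.2 (by simpa [sq] using h6)) : 1 ≡ m * m [MOD p]).symm

end Dh

end Cfsg.Lib.Alex
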