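import Cfsg.Agent.Lib.Alex.Cond

/-!
# The case `|G| = p x y`
-/

set_option autoImplicit false

namespace Cfsg.Lib.Alex

open Cfsg.Lib.Char Cfsg.Lib.Small Cfsg.Lib.Cyc Subgroup Finset
open scoped MatrixGroups

variable {G : Type*} [Group G] [Finite G] {p x y k r : ℕ} {δ : ℤ} {χ θ : G → ℂ} {f : G → ℤ}
  {g s u v : G} {D : Subgroup G}

omit [Finite G] in
theorem Dh.tri (h : Dh G p x y 1 k δ χ θ f) : Tri G p x y χ θ := by
  have h1 := h.ndvd
  rw [one_pow, mul_one, h.prime.dvd_mul, not_or] at h1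
  have h2 : ‖(δ : ℂ)‖ = 1 := by rcases h.sign with rfl | rfl <;> simp
  refine ⟨h.prime, by rw [h.card]; ring,
    (h.prime.coprime_iff_not_dvd.2 h1.1).symm.mul_right h.coprime,
    h.coprime.symm.mul_right (h.prime.coprime_iff_not_dvd.2 h1.2).symm, h.irr, h.irr', h.deg,
    h.deg', fun g hg => ⟨(h.sing g hg).1, by rw [h.val, (h.sing g hg).2, h2]⟩, δ, -δ, h2,
    fun g hg => ?_⟩
  rw [h.reg g hg, h.val]
  rcases h.sign with rfl | rfl <;> push_cast <;> ring

theorem tri_false_one (h : Tri G p x y χ θ) (h1 : p * y + 1 = x ^ 2) (h2 : 2 ∣ x) (hr : r.Prime)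
    (h3 : r ≠ 2) (h4 : r ∣ x) : False := by
  obtain ⟨j, rfl⟩ := h.exists_eq_two_pow h1 h2
  exact h3 ((Nat.prime_dvd_prime_iff_eq hr Nat.prime_two).1 (hr.dvd_of_dvd_pow h4))

theorem tri_card_sylow [Fact r.Prime] (h : Tri G p x y χ θ) (P : Sylow r G) [IsMulCommutative P]
    (hP : Nat.card P = x) (h1 : 1 < x) : Nat.card (Sylow r G) = x + 1 := by
  classical
  have := Fintype.ofFinite G
  have := Fintype.ofFinite (Sylow r G)
  obtain ⟨j, hj⟩ := P.isPGroup'.exists_card_eq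
  have h2 : ∀ g : G, ∃ R : Sylow r G, orderOf g ∣ x → g ∈ (R : Subgroup G) := fun g => by
    by_cases hg : orderOf g ∣ x
    · obtain ⟨i, -, hi⟩ := (Nat.dvd_prime_pow Fact.out).1 (hj ▸ hP ▸ hg)
      obtain ⟨R, hR⟩ := (IsPGroup.of_card ((Nat.card_zpowers g).trans hi)).exists_le_sylow
      exact ⟨R, fun _ => hR (mem_zpowers g)⟩
    · exact ⟨P, fun e => absurd e hg⟩
  choose φ hφ using h2
  have h3 := card_eq_sum_card_fiberwise (f := φ) (s := {g : G | orderOf g ∣ x ∧ g ≠ 1})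
    (t := univ) fun _ _ => mem_univ _
  rw [sum_congr rfl (g := fun _ => x - 1) fun R _ => by
    have : IsMulCommutative R := Function.Surjective.mul_comm (f := (P.equiv R).toMonoidHom)
      (P.equiv R).surjective ‹_›
    have h4 := (card_sylow_eq_card R P).trans hP
    have h5 : #{g : G | g ∈ (R : Subgroup G)} = x := by
      rw [← h4, Nat.card_eq_fintype_card, Fintype.card_subtype]
    rw [← congrArg (· - 1) h5, ← card_erase_of_mem (a := (1 : G))
      (mem_filter.2 ⟨mem_univ _, one_mem _⟩)]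
    congr 1
    ext g
    simp only [mem_filter, mem_univ, true_and, mem_erase]
    refine ⟨fun e => ⟨e.1.2, e.2 ▸ hφ g e.1.1⟩, fun e => ?_⟩
    have h6 : orderOf g ∣ x := h4 ▸ orderOf_dvd_natCard _ e.2
    exact ⟨⟨h6, e.1⟩, sylow_eq_of_cent (h.cent R h4) e.2 e.1 (hφ g h6)⟩, sum_const, card_univ,
    smul_eq_mul, ← Nat.card_eq_fintype_card] at h3
  have h4 := h.ncard_eq
  rw [← coe_filter_univ, Set.ncard_coe_finset] at h4
  have h5 : #{g : G | orderOf g ∣ x} = #{g : G | orderOf g ∣ x ∧ g ≠ 1} + 1 := by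
    rw [← card_insert_of_notMem (a := (1 : G)) (by simp)]
    congr 1
    ext g
    by_cases e : g = 1 <;> simp [e]
  rw [h5, h3] at h4
  obtain ⟨z, rfl⟩ : ∃ z, x = z + 1 := ⟨x - 1, by omega⟩
  rw [Nat.add_sub_cancel] at h4
  exact Nat.eq_of_mul_eq_mul_right (by omega : 0 < z) (by nlinarith)

section Two

variable (h : Tri G p x y χ θ) (h1 : 2 * (p * y) + 1 = x ^ 2)
include h h1

theorem tri_index (hg : g ≠ 1) (h2 : orderOf g ∣ x) :
    Nat.card (centralizer ({g} : Set G)) = x ∧ (centralizer ({g} : Set G)).index = p * y := by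
  obtain ⟨j, hj⟩ := h.card_centralizer_dvd hg h2
  have h3 := (centralizer ({g} : Set G)).card_mul_index
  rw [h.card, hj, mul_assoc, Nat.mul_right_inj Nat.card_pos.ne'] at h3
  have h4 : {z | IsConj g z}.ncard ≤ ({g : G | orderOf g ∣ x} \ {1}).ncard :=
    Set.ncard_le_ncard fun z hz => ⟨(orderOf_eq_of_isConj hz).symm.dvd.trans h2,
      fun e => hg (isConj_one_left.1 (e ▸ hz))⟩
  rw [Set.ncard_sdiff_singleton_of_mem (by simp), h.ncard_eq, ncard_isConj_eq_index, h3, ← h1,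
    Nat.add_sub_cancel] at h4
  have h5 : 0 < p * y := Nat.pos_of_ne_zero fun e =>
    index_ne_zero_of_finite (h3.trans (by rw [e, mul_zero]))
  have h6 := Nat.le_of_mul_le_mul_right h4 h5
  have h7 : ¬ 2 ∣ j := fun e => by
    have := (hj ▸ e.mul_left _ : 2 ∣ x).pow two_ne_zero
    omega
  obtain rfl : j = 1 := by omega
  exact ⟨(hj.trans (mul_one _)).symm, h3.trans (one_mul _)⟩

theorem tri_false_two {l : ℕ} (hr : r.Prime) (hl : l.Prime) (h2 : r ≠ l) (h3 : r ∣ x) (h4 : l ∣ x) :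
    False := by
  classical
  have := Fintype.ofFinite G
  have := Fact.mk hr
  have h5 := (Nat.coprime_primes hr hl).2 h2
  obtain ⟨u, hu⟩ := exists_prime_orderOf_dvd_card' (G := G) r (h.card ▸ h3.mul_right _)
  have a1 : ∀ g : G, orderOf g ≠ 1 → orderOf g ∣ x → p * y ≤ #{z : G | orderOf z = orderOf g} :=
    fun g h6 h7 => by
      rw [← (tri_index h h1 (mt orderOf_eq_one_iff.2 h6) h7).2, ← ncard_isConj_eq_index,
        ← Set.ncard_coe_finset]
      exact Set.ncard_le_ncard fun z hz => by simpa using (orderOf_eq_of_isConj hz).symm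
  obtain ⟨v, h6, hv⟩ := exists_mem_orderOf_eq_prime hl ((tri_index h h1 (mt orderOf_eq_one_iff.2
    (hu ▸ hr.ne_one)) (hu ▸ h3)).1.symm ▸ h4)
  have h7 := (show Commute v u from mem_centralizer_singleton_iff.1 h6).symm
    |>.orderOf_mul_eq_mul_orderOf_of_coprime (hu ▸ hv ▸ h5)
  have b1 := a1 u (hu ▸ hr.ne_one) (hu ▸ h3)
  have b2 := a1 v (hv ▸ hl.ne_one) (hv ▸ h4)
  have h8 := hr.two_le
  have h9 := hl.two_le
  rw [hu, hv] at h7
  have b3 := a1 (u * v) (h7 ▸ by nlinarith) (h7 ▸ h5.mul_dvd_of_dvd_of_dvd h3 h4)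
  have b4 : 1 ≤ #{z : G | orderOf z = 1} := card_pos.2 ⟨1, by simp⟩
  have b5 := sum_card_fiberwise_eq_card_filter (univ : Finset G) {1, r, l, r * l} orderOf
  have c1 : r < r * l := by nlinarith
  have c2 : l < r * l := by nlinarith
  rw [sum_insert (by simp; omega), sum_insert (by simp; omega), sum_pair (by omega)] at b5
  have b6 : #{z : G | orderOf z ∈ ({1, r, l, r * l} : Finset ℕ)} ≤ x ^ 2 := by
    rw [← h.ncard_eq, ← Set.ncard_coe_finset]
    refine Set.ncard_le_ncard fun z hz => ?_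
    simp only [coe_filter, mem_univ, true_and, mem_insert, mem_singleton, Set.mem_ofPred_eq] at hz ⊢
    rcases hz with e | e | e | e <;> rw [e]
    exacts [one_dvd _, h3, h4, h5.mul_dvd_of_dvd_of_dvd h3 h4]
  have b7 : 0 < p * y := Nat.pos_of_ne_zero fun e => by
    have := h.card
    rw [e, mul_zero] at this
    exact Nat.card_pos.ne' this
  rw [hu] at b1
  rw [hv] at b2
  rw [h7] at b3
  omega

variable [Fact r.Prime] {P : Sylow r G} (hP : Nat.card P = x)
include hP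

theorem tri_fpf (hD : D ≤ P) (hs : ¬ orderOf s ∣ x) : D ⊓ centralizer {s} = ⊥ :=
  eq_bot_iff.2 fun g hg => by_contra fun e => hs ((tri_index h h1 e
    (hP ▸ orderOf_dvd_natCard _ (hD hg.1))).1 ▸ orderOf_dvd_natCard _
      (mem_centralizer_singleton_iff.2 (mem_centralizer_singleton_iff.1 hg.2).symm))

theorem tri_comm (hD : D ≤ P) (h2 : D ≠ ⊥) (hs : orderOf s = 2) (h3 : s ∈ normalizer (D : Set G)) :
    IsMulCommutative P := by
  have h4 : ¬ orderOf s ∣ x := fun e => by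
    have := (hs ▸ e : 2 ∣ x).pow two_ne_zero
    omega
  have h5 : s * s = 1 := by rw [← pow_two, ← hs, pow_orderOf_eq_one]
  obtain ⟨⟨d, hd⟩, h6⟩ := ne_bot_iff_exists_ne_one.1 h2
  have h7 : d⁻¹ * (s * d * s⁻¹) ∈ D := mul_mem (inv_mem hd) ((mem_normalizer_iff.1 h3 d).1 hd)
  have h8 : d⁻¹ * (s * d * s⁻¹) ≠ 1 := fun e => h6 (Subtype.ext (mem_bot.1 (tri_fpf h h1 hP hD h4 ▸
    ⟨hd, mem_centralizer_singleton_iff.2 (mul_inv_eq_iff_eq_mul.1 (inv_mul_eq_one.1 e).symm).symm⟩)))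
  have h9 : s * (d⁻¹ * (s * d * s⁻¹)) * s⁻¹ = (d⁻¹ * (s * d * s⁻¹))⁻¹ := by
    calc _ = s * d⁻¹ * s⁻¹ * (s * s) * d * (s * s)⁻¹ := by group
      _ = _ := by rw [h5, ← inv_eq_of_mul_eq_one_right h5]; group
  generalize d⁻¹ * (s * d * s⁻¹) = u at *
  obtain ⟨j, hj⟩ := P.isPGroup'.exists_card_eq
  have h10 := (tri_index h h1 h8 (hP ▸ orderOf_dvd_natCard _ (hD h7))).1
  obtain ⟨R, hR⟩ := (IsPGroup.of_card (h10.trans (hP.symm.trans hj))).exists_le_sylow
  have h11 := (card_sylow_eq_card R P).trans hP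
  have h12 := eq_of_le_of_card_ge hR (h11.trans h10.symm).le
  have h13 : s ∈ normalizer ((centralizer ({u} : Set G) : Subgroup G) : Set G) :=
    centralizer_zpowers u ▸ Core.normalizer_le_normalizer_centralizer _
      (PGroup.mem_normalizer_zpowers (k := -1) (h9.trans (zpow_neg_one u).symm))
  rw [h12] at h13
  refine Function.Surjective.mul_comm (f := (R.equiv P).toMonoidHom) (R.equiv P).surjective
    ⟨⟨fun a b => MonoidHom.FixedPointFree.commute_all_of_involutive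
      (φ := normalizerMonoidHom _ ⟨s, h13⟩) (fun a ha => Subtype.ext (mem_bot.1
        (tri_fpf h h1 h11 le_rfl h4 ▸ ⟨a.2, mem_centralizer_singleton_iff.2
          (mul_inv_eq_iff_eq_mul.1 (congrArg Subtype.val ha)).symm⟩))) (fun a => ?_) a b⟩⟩
  rw [← MulAut.mul_apply, ← map_mul, show (⟨s, h13⟩ * ⟨s, h13⟩ : normalizer _) = 1 from
    Subtype.ext h5, map_one, MulAut.one_apply]

theorem tri_dvd (h0 : ¬ IsMulCommutative P) (hD : D ≤ P) (h2 : D ≠ ⊥) {j w z : ℕ}
    (h3 : j ∣ Nat.card (normalizer (D : Set G))) (h4 : j ∣ p * y) (h5 : p * y = w * z)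
    (h6 : z.gcd (Nat.card D - 1) ∣ 32) : j ∣ w := by
  refine Nat.Coprime.dvd_of_dvd_mul_right (Nat.coprime_of_dvd fun l hl h7 h8 => ?_) (h5 ▸ h4)
  obtain ⟨s, h9, hs⟩ := exists_mem_orderOf_eq_prime hl (h7.trans h3)
  have h10 := Frobenius.card_dvd_card_sub_one_of_fpf (zpowers_le.2 h9) fun g hg h10 =>
    tri_fpf h h1 hP hD fun e => h10 (orderOf_eq_one_iff.1 (Nat.eq_one_of_dvd_coprimes h.cop e
      (((orderOf_dvd_of_mem_zpowers hg).trans hs.dvd).trans (h7.trans h4))))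
  rw [Nat.card_zpowers, hs] at h10
  obtain rfl := (Nat.prime_dvd_prime_iff_eq hl Nat.prime_two).1
    (hl.dvd_of_dvd_pow (n := 5) ((Nat.dvd_gcd h8 h10).trans h6))
  exact h0 (tri_comm h h1 hP hD h2 hs h9)

theorem tri_comm' {d w z w' z' : ℕ} (hd : x = r * d) (h2 : 1 < d) (h3 : p * y = w * z)
    (h4 : z.gcd (d - 1) ∣ 32) (h5 : ∀ n ∈ w.divisors, n % r = 1 → n = 1) (h6 : p * y = w' * z')
    (h7 : z'.gcd (x - 1) ∣ 32) (h8 : ∀ n ∈ w'.divisors, p * y / n % r ^ 2 ≠ 1) :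
    IsMulCommutative P := by
  by_contra h0
  have hr : r.Prime := Fact.out
  have a1 : (P : Subgroup G).index = p * y := Nat.eq_of_mul_eq_mul_left Nat.card_pos
    ((P : Subgroup G).card_mul_index.trans (hP ▸ h.card))
  have a2 : p * y ≠ 0 := a1 ▸ index_ne_zero_of_finite
  by_cases a3 : Nat.card (Sylow r G) ≡ 1 [MOD r ^ 2]
  · have a4 := relIndex_mul_index (P : Subgroup G).le_normalizer
    rw [a1, show (normalizer ((P : Subgroup G) : Set G)).index = Nat.card (Sylow r G) from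
      P.card_eq_index_normalizer.symm] at a4
    refine h8 _ (Nat.mem_divisors.2 ⟨tri_dvd h h1 hP h0 le_rfl (fun e => ?_) (relIndex_dvd_card _ _)
      ⟨_, a4.symm⟩ h6 (hP ▸ h7), left_ne_zero_of_mul (h6 ▸ a2)⟩) ?_
    · rw [e, card_bot] at hP
      nlinarith [hr.two_le]
    · rw [← a4, Nat.mul_div_cancel_left _ (Nat.pos_of_ne_zero (left_ne_zero_of_mul (a4 ▸ a2))), a3,
        Nat.mod_eq_of_lt (Nat.one_lt_pow two_ne_zero hr.one_lt)]
  · obtain ⟨R, a4, a5⟩ := exists_sylow_relIndex_eq P a3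
    have a6 := le_normalizer_inf_of_relIndex P.isPGroup' a5
    have a7 := le_normalizer_inf_of_relIndex R.isPGroup' ((relIndex_sylow_comm P R).symm.trans a5)
    rw [inf_comm] at a7
    have a8 : Nat.card ↥((P : Subgroup G) ⊓ R) = d := by
      have := ((R : Subgroup G).subgroupOf P).card_mul_index
      rw [← relIndex, a5, hP, hd, mul_comm, ← inf_subgroupOf_left,
        Nat.card_congr (subgroupOfEquivOfLe inf_le_left).toEquiv] at this
      exact Nat.eq_of_mul_eq_mul_left hr.pos this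
    have a9 := tri_dvd h h1 hP h0 inf_le_left (fun e => by rw [e, card_bot] at a8; omega)
      (relIndex_dvd_card P _) (a1 ▸ relIndex_dvd_index_of_le a6) h3 (a8 ▸ h4)
    exact (one_lt_card_sylow a4 a6 a7).ne' (h5 _ (Nat.mem_divisors.2
      ⟨(card_sylow_dvd_relIndex a6).trans a9, left_ne_zero_of_mul (h3 ▸ a2)⟩)
      (Eq.trans (card_sylow_modEq_one r _) (Nat.mod_eq_of_lt hr.one_lt)))

theorem tri_psl [IsSimpleGroup G] [IsMulCommutative P] (h2 : 1 < x) :
    ∃ (F : Type) (_ : Field F) (_ : Fintype F), Fintype.card F = x ∧ Nonempty (G ≃* PSL(2, F)) := by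
  obtain ⟨j, hj⟩ := P.isPGroup'.exists_card_eq
  have h3 : j ≠ 0 := by rintro rfl; rw [pow_zero] at hj; omega
  let _ := Fintype.ofFinite (GaloisField r j)
  have h4 := (GaloisField.card r j h3).trans hj.symm
  refine ⟨GaloisField r j, _, _, Nat.card_eq_fintype_card.symm.trans (h4.trans hP),
    equiv_psl_of_sylow (h.cent P hP) (hP ▸ tri_card_sylow h P hP h2)
      (fun e => by rw [e, card_bot] at hP; omega) ?_ _ h4⟩
  rw [h.card, hP]
  zify [h2.le] at h1 ⊢
  linear_combination x * h1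

end Two

end Cfsg.Lib.Alex
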