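import Mathlib

/-!
# Størmer's theorem for the primes `2, 3, 5, 7`
-/

set_option autoImplicit false

namespace Cfsg.Lib.Alex

open Pell Pell.Solution₁

/-- `n` has no prime divisor greater than `7`. -/
def Sm7 (n : ℕ) : Prop := ∀ q, q.Prime → q ∣ n → q ∣ 210

theorem Sm7.of_dvd {m n : ℕ} (h : Sm7 n) (h1 : m ∣ n) : Sm7 m := fun q hq h2 => h q hq (h2.trans h1)

theorem Sm7.mul {m n : ℕ} (h : Sm7 m) (h1 : Sm7 n) : Sm7 (m * n) := fun q hq h2 =>
  (hq.dvd_mul.1 h2).elim (h q hq) (h1 q hq)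

/-- Powers of `x + y √D`. -/
def pellPw (D x y : ℕ) : ℕ → ℕ × ℕ
  | 0 => (1, 0)
  | k + 1 => ((pellPw D x y k).1 * x + D * ((pellPw D x y k).2 * y),
      (pellPw D x y k).1 * y + (pellPw D x y k).2 * x)

theorem pellPw_eq {D x y : ℕ} {a : Solution₁ D} (hx : a.x = x) (hy : a.y = y) (k : ℕ) :
    (a ^ k).x = (pellPw D x y k).1 ∧ (a ^ k).y = (pellPw D x y k).2 := by
  induction k with
  | zero => simp [pellPw]
  | succ k ih => simp [pellPw, pow_succ, x_mul, y_mul, ih.1, ih.2, hx, hy]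

/-- A test for having a prime divisor greater than `7`. -/
def nsm7 (n : ℕ) : Bool :=
  decide (1 < n / Nat.gcd n (210 ^ 60)) && Nat.gcd (n / Nat.gcd n (210 ^ 60)) 210 == 1

theorem not_sm7 {n : ℕ} (h : nsm7 n = true) : ¬ Sm7 n := fun h1 => by
  simp only [nsm7, Bool.and_eq_true, decide_eq_true_eq, beq_iff_eq] at h
  have h2 := Nat.minFac_prime h.1.ne'
  exact h2.not_dvd_one (h.2 ▸ Nat.dvd_gcd (Nat.minFac_dvd _) (h1 _ h2
    ((Nat.minFac_dvd _).trans (Nat.div_dvd_of_dvd (Nat.gcd_dvd_left ..)))))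

theorem y_pow_succ {d : ℤ} (b : Solution₁ d) (n : ℕ) : ∃ w z : ℤ,
    (b ^ (n + 1)).y = b.y * ((n + 1) * b.x ^ n + b.y * w) ∧
      (b ^ (n + 1)).x = b.x ^ (n + 1) + b.y * z := by
  induction n with
  | zero => exact ⟨0, 0, by simp, by simp⟩
  | succ n ih =>
    obtain ⟨w, z, h1, h2⟩ := ih
    refine ⟨z + w * b.x, z * b.x + d * (b ^ (n + 1)).y, ?_, ?_⟩
    · rw [pow_succ, y_mul, h1, h2]; push_cast; ring
    · rw [pow_succ b (n + 1), x_mul, h2]; ring

theorem y_dvd_pow {d : ℤ} (b : Solution₁ d) (n : ℕ) : b.y ∣ (b ^ n).y := by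
  rcases n with _ | n
  · simp
  · obtain ⟨w, -, h, -⟩ := y_pow_succ b n
    exact ⟨_, h⟩

theorem dvd_y_of_coprime {d l : ℤ} {a : Solution₁ d} {r j : ℕ} (h : r.Coprime j)
    (h1 : l ∣ (a ^ r).y) (h2 : l ∣ (a ^ j).y) : l ∣ a.y := by
  let H : Subgroup (Solution₁ d) :=
    { carrier := {b | l ∣ b.y}
      mul_mem' := fun {b c} hb hc => by
        simpa [y_mul] using dvd_add (Dvd.dvd.mul_left hc _) (Dvd.dvd.mul_right hb _)
      one_mem' := by simp
      inv_mem' := fun {b} hb => by simpa using hb }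
  have := H.mul_mem (H.zpow_mem (x := a ^ r) h1 (Nat.gcdA r j))
    (H.zpow_mem (x := a ^ j) h2 (Nat.gcdB r j))
  rwa [← zpow_natCast, ← zpow_mul, ← zpow_natCast, ← zpow_mul, ← zpow_add, ← Nat.gcd_eq_gcd_ab, h,
    Nat.cast_one, zpow_one] at this

theorem not_sm7_prime {d : ℤ} {a : Solution₁ d} (ha : IsFundamental a) {r : ℕ} (hr : r.Prime)
    (h9 : 8 < r) (h : ∀ l : ℕ, l.Prime → l ∣ 210 → ∃ j < 8, (l : ℤ) ∣ (a ^ (j + 1)).y) :
    ¬ Sm7 (a ^ r).y.natAbs := fun hs => by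
  obtain ⟨n, rfl⟩ : ∃ n, r = n + 1 := ⟨r - 1, by omega⟩
  obtain ⟨w, -, h1, -⟩ := y_pow_succ a n
  have h2 : (a ^ (1 : ℤ)).y < (a ^ ((n + 1 : ℕ) : ℤ)).y := ha.y_strictMono (by omega)
  rw [zpow_one, zpow_natCast] at h2
  have h3 := ha.2.1
  set W := (n + 1) * a.x ^ n + a.y * w with hW
  have h4 : W.natAbs ≠ 1 := fun e => by
    rcases Int.natAbs_eq_iff.1 e with e | e <;> rw [h1, e] at h2 <;> omega
  obtain ⟨l, hl, h5⟩ := Nat.exists_prime_and_dvd h4
  have h6 : (l : ℤ) ∣ W := Int.natCast_dvd.2 h5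
  have h7 : (l : ℤ) ∣ (a ^ (n + 1)).y := h1 ▸ h6.mul_left _
  have h8 := hs l hl (Int.natCast_dvd.1 h7)
  obtain ⟨j, hj, h10⟩ := h l hl h8
  have h11 := dvd_y_of_coprime (hr.coprime_iff_not_dvd.2
    (Nat.not_dvd_of_pos_of_lt (by omega) (by omega))) h7 h10
  have h12 : (l : ℤ) ∣ ((n + 1 : ℕ) : ℤ) * a.x ^ n := by
    have := h6.sub (h11.mul_right w)
    rw [hW, add_sub_cancel_right] at this
    exact_mod_cast this
  have hl' := Nat.prime_iff_prime_int.1 hl
  rcases hl'.dvd_or_dvd h12 with h13 | h13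
  · obtain rfl := (Nat.prime_dvd_prime_iff_eq hl hr).1 (Int.natCast_dvd_natCast.1 h13)
    have h14 : n + 1 ∣ 2 * 3 * 5 * 7 := h8
    simp only [hr.dvd_mul] at h14
    rcases h14 with ((h | h) | h) | h <;> have := Nat.le_of_dvd (by decide) h <;> omega
  · exact hl'.not_dvd_one (a.prop ▸ ((hl'.dvd_of_dvd_pow h13).pow two_ne_zero).sub
      ((h11.pow two_ne_zero).mul_left _))

/-- The smaller members of the pairs of consecutive `7`-smooth numbers. -/
def stormerList : List ℕ :=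
  [1, 2, 3, 4, 5, 6, 7, 8, 9, 14, 15, 20, 24, 27, 35, 48, 49, 63, 80, 125, 224, 2400, 4374]

/-- The check for a fundamental solution `x + y √D`. -/
def pellChk (D x y : ℕ) : Bool :=
  x * x == 1 + D * (y * y) && decide (1 < x) && decide (0 < y) &&
  (List.range x).all (fun u => (List.range y).all fun v => decide (u ≤ 1) ||
    u * u != 1 + D * (v * v)) &&
  [2, 3, 5, 7].all (fun l => (List.range 8).any fun j => (pellPw D x y (j + 1)).2 % l == 0) &&
  [5, 6, 7, 8, 9].all (fun j => nsm7 (pellPw D x y j).2) &&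
  [1, 2, 3, 4].all fun j => nsm7 (pellPw D x y j).2 || (pellPw D x y j).1 % 2 == 0 ||
    decide ((pellPw D x y j).1 / 2 ∈ stormerList)

theorem prime_dvd_210 {l : ℕ} (hl : l.Prime) (h : l ∣ 210) : l ∈ [2, 3, 5, 7] := by
  have h14 : l ∣ 2 * 3 * 5 * 7 := h
  simp only [hl.dvd_mul] at h14
  rcases h14 with ((h | h) | h) | h <;>
    rw [(Nat.prime_dvd_prime_iff_eq hl (by norm_num)).1 h] <;> simp

theorem exists_dvd_of_five_le {k : ℕ} (h : 5 ≤ k) :
    (∃ j ∈ [5, 6, 7, 8, 9], j ∣ k) ∨ ∃ r, r.Prime ∧ 8 < r ∧ r ∣ k := by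
  by_contra h0
  simp only [List.mem_cons, List.not_mem_nil, or_false, exists_eq_or_imp, exists_eq_left, not_or,
    not_exists, not_and] at h0
  obtain ⟨⟨h5, h6, h7, h8, h9⟩, h1⟩ := h0
  obtain ⟨i, m, h2, rfl⟩ := Nat.exists_eq_pow_mul_and_not_dvd (by omega : k ≠ 0) 2 (by decide)
  obtain ⟨j, n, h3, rfl⟩ := Nat.exists_eq_pow_mul_and_not_dvd (n := m) (by rintro rfl; simp at h2)
    3 (by decide)
  obtain rfl : n = 1 := by
    by_contra h4
    obtain ⟨r, hr, h10⟩ := Nat.exists_prime_and_dvd h4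
    have h11 : r ∣ 2 ^ i * (3 ^ j * n) := (h10.mul_left _).mul_left _
    have h12 := mt (h1 r hr) (not_not.2 h11)
    have := hr.two_le
    have h13 : r ≤ 8 := by omega
    interval_cases r
    · exact h2 (h10.mul_left _)
    · exact h3 h10
    · norm_num at hr
    · exact h5 h11
    · norm_num at hr
    · exact h7 h11
    · norm_num at hr
  have hi : i < 3 := by
    by_contra e
    exact h8 ((pow_dvd_pow 2 (not_lt.1 e)).mul_right _)
  have hj : j < 2 := by
    by_contra e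
    exact h9 (((pow_dvd_pow 3 (not_lt.1 e)).mul_right _).mul_left _)
  interval_cases i <;> interval_cases j <;> simp_all

theorem mem_of_pellChk {D x y n Y : ℕ} (h : pellChk D x y = true)
    (h1 : (2 * n + 1) ^ 2 = 1 + D * Y ^ 2) (h2 : Sm7 Y) (h3 : 0 < n) : n ∈ stormerList := by
  simp only [pellChk, Bool.and_eq_true, beq_iff_eq, decide_eq_true_eq, List.all_eq_true,
    List.mem_range, Bool.or_eq_true, bne_iff_ne, List.any_eq_true] at h
  obtain ⟨⟨⟨⟨⟨⟨a1, a2⟩, a3⟩, a4⟩, a5⟩, a6⟩, a7⟩ := h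
  let a : Solution₁ D := mk x y (by zify at a1; linear_combination a1)
  let b : Solution₁ D := mk (2 * n + 1 : ℕ) Y (by zify at h1; push_cast; linear_combination h1)
  have ha : IsFundamental a := by
    refine ⟨by simpa [a] using a2, by simpa [a] using a3, fun {c} hc => not_lt.1 fun h4 => ?_⟩
    have h5 := c.prop_x
    obtain ⟨u, hu⟩ := Int.eq_ofNat_of_zero_le (by omega : 0 ≤ c.x)
    rw [← sq_abs c.y, ← Int.natCast_natAbs, hu] at h5
    have h6 : u * u = 1 + D * (c.y.natAbs * c.y.natAbs) := by zify; simpa [sq] using h5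
    have h7 : u < x := by simpa [a, hu] using h4
    have h8 : c.y.natAbs < y := by
      by_contra e
      have := Nat.mul_le_mul_left D (Nat.mul_self_le_mul_self (not_lt.1 e))
      nlinarith
    rcases a4 u h7 _ h8 with e | e
    · omega
    · exact e h6
  obtain ⟨k, hk⟩ := ha.eq_pow_of_nonneg (a := b) (by simp [b]) (by simp [b])
  have h4 : ∀ j, j ∣ k → Sm7 (a ^ j).y.natAbs := by
    rintro j ⟨i, rfl⟩
    refine h2.of_dvd (Int.natAbs_dvd_natAbs.2 (y_dvd_pow (a ^ j) i) |>.trans ?_)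
    rw [← pow_mul, ← hk]; simp [b]
  have h5 := pellPw_eq (a := a) (x := x) (y := y) rfl rfl
  have h6 : ∀ j, j ∣ k → nsm7 (pellPw D x y j).2 ≠ true := fun j hj e =>
    not_sm7 e (by simpa [(h5 j).2] using h4 j hj)
  have h7 : 2 * n + 1 = (pellPw D x y k).1 := by
    have := (h5 k).1
    rw [← hk, x_mk] at this
    exact_mod_cast this
  by_cases h8 : 5 ≤ k
  · rcases exists_dvd_of_five_le h8 with ⟨j, h9, h10⟩ | ⟨r, hr, h9, h10⟩
    · exact absurd (a6 j h9) (h6 j h10)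
    · refine absurd (h4 r h10) (not_sm7_prime ha hr h9 fun l hl h11 => ?_)
      obtain ⟨j, h12, h13⟩ := a5 l (prime_dvd_210 hl h11)
      exact ⟨j, h12, (h5 _).2 ▸ Int.natCast_dvd_natCast.2 (Nat.dvd_of_mod_eq_zero h13)⟩
  · have h9 : k ∈ [1, 2, 3, 4] := by
      have : k ≠ 0 := by rintro rfl; simp [pellPw] at h7; omega
      simp; omega
    rcases a7 k h9 with (e | e) | e
    · exact absurd e (h6 k dvd_rfl)
    · omega
    · rwa [← h7, show (2 * n + 1) / 2 = n by omega] at e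

/-- The fundamental solutions. -/
def pellTable : List (ℕ × ℕ × ℕ) :=
  [(2, 3, 2), (3, 2, 1), (5, 9, 4), (6, 5, 2), (7, 8, 3), (10, 19, 6), (14, 15, 4), (15, 4, 1),
    (21, 55, 12), (30, 11, 2), (35, 6, 1), (42, 13, 2), (70, 251, 30), (105, 41, 4), (210, 29, 2)]

theorem pellTable_chk : pellTable.all (fun c => pellChk c.1 c.2.1 c.2.2) = true := by
  decide +kernel

/-- Størmer's theorem. -/
theorem stormer {n : ℕ} (h0 : 0 < n) (h1 : Sm7 n) (h2 : Sm7 (n + 1)) : n ∈ stormerList := by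
  obtain ⟨D, Y, h3, h4⟩ := Nat.sq_mul_squarefree (4 * (n * (n + 1)))
  have h5 : Sm7 (4 * (n * (n + 1))) := Sm7.mul (fun q hq h =>
    (hq.dvd_of_dvd_pow (m := 2) (n := 2) h).trans (by decide)) (h1.mul h2)
  have h6 : D ∣ 210 := by
    rw [← Nat.prod_primeFactors_of_squarefree h4]
    exact Finset.prod_primes_dvd _ (fun q hq => (Nat.prime_of_mem_primeFactors hq).prime)
      fun q hq => h5 q (Nat.prime_of_mem_primeFactors hq)
        (h3 ▸ (Nat.dvd_of_mem_primeFactors hq).mul_left _)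
  have h7 : (2 * n + 1) ^ 2 = 1 + D * Y ^ 2 := by nlinarith
  have h8 : ∀ D ∈ Nat.divisors 210, D = 1 ∨ ∃ c ∈ pellTable, c.1 = D := by decide +kernel
  rcases h8 D (Nat.mem_divisors.2 ⟨h6, by decide⟩) with rfl | ⟨c, h9, rfl⟩
  · have h9 : Y < 2 * n + 1 := by nlinarith
    nlinarith
  · exact mem_of_pellChk (List.all_eq_true.1 pellTable_chk c h9) h7
      (h5.of_dvd (h3 ▸ (dvd_pow_self Y two_ne_zero).mul_right _)) h0

end Cfsg.Lib.Alex
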